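import Cfsg.Agent.Comp.J2.Defs

/-! Data for the icosian reflection group. -/

set_option autoImplicit false
set_option maxRecDepth 100000

namespace CF.Comp.J2

def AW : List (List Nat) := [[3, 5, 3], [1, 3, 5, 1, 7, 3, 7, 5, 3, 7, 5, 3, 7, 1], [5, 7, 1, 3, 7, 3, 1, 7, 3, 5, 7, 5, 3, 7, 1, 3, 7, 5, 3], [5, 7, 3, 7, 1, 3, 7, 5, 3, 5, 7, 3, 1, 7, 3, 5, 7, 5, 3, 1], [1, 7, 5, 3, 5, 7, 3, 1, 7, 3, 7, 1, 3, 7, 5, 3, 7, 3],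 [3, 7, 3, 7, 1, 3, 7, 5, 3, 5, 7, 3, 1, 7, 3, 7, 3], [5]]
def XW : List (List Nat) := [[3, 8, 11, 7, 4], [11, 7, 11, 9, 7, 11], [13], [11, 7, 5, 10, 1, 5, 7, 11, 1]]
def ZW : List Nat := [5, 3, 5, 1, 3, 5, 1, 3, 1]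
def M4 : List (V × V × V) := [oneM, matR vA, matR vA, matR vB, matR vB, matR vC, matR vC, matR vD, matR vD]
def M7 : List (V × V × V) := [(⟨⟨⟨4, 0⟩, ⟨0, 0⟩, ⟨0, 0⟩, ⟨0, 0⟩⟩, ⟨⟨0, 0⟩, ⟨0, 0⟩, ⟨0, 0⟩, ⟨0, 0⟩⟩, ⟨⟨0, 0⟩, ⟨0, 0⟩, ⟨0, 0⟩, ⟨0, 0⟩⟩⟩,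
    ⟨⟨⟨0, 0⟩, ⟨0, 0⟩, ⟨0, 0⟩, ⟨0, 0⟩⟩, ⟨⟨4, 0⟩, ⟨0, 0⟩, ⟨0, 0⟩, ⟨0, 0⟩⟩, ⟨⟨0, 0⟩, ⟨0, 0⟩, ⟨0, 0⟩, ⟨0, 0⟩⟩⟩,
    ⟨⟨⟨0, 0⟩, ⟨0, 0⟩, ⟨0, 0⟩, ⟨0, 0⟩⟩, ⟨⟨0, 0⟩, ⟨0, 0⟩, ⟨0, 0⟩, ⟨0, 0⟩⟩, ⟨⟨4, 0⟩, ⟨0, 0⟩, ⟨0, 0⟩, ⟨0, 0⟩⟩⟩),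
  (⟨⟨⟨4, 0⟩, ⟨0, 0⟩, ⟨0, 0⟩, ⟨0, 0⟩⟩, ⟨⟨0, 0⟩, ⟨0, 0⟩, ⟨0, 0⟩, ⟨0, 0⟩⟩, ⟨⟨0, 0⟩, ⟨0, 0⟩, ⟨0, 0⟩, ⟨0, 0⟩⟩⟩,
    ⟨⟨⟨0, 0⟩, ⟨0, 0⟩, ⟨0, 0⟩, ⟨0, 0⟩⟩, ⟨⟨-4, 0⟩, ⟨0, 0⟩, ⟨0, 0⟩, ⟨0, 0⟩⟩, ⟨⟨0, 0⟩, ⟨0, 0⟩, ⟨0, 0⟩, ⟨0, 0⟩⟩⟩,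
    ⟨⟨⟨0, 0⟩, ⟨0, 0⟩, ⟨0, 0⟩, ⟨0, 0⟩⟩, ⟨⟨0, 0⟩, ⟨0, 0⟩, ⟨0, 0⟩, ⟨0, 0⟩⟩, ⟨⟨4, 0⟩, ⟨0, 0⟩, ⟨0, 0⟩, ⟨0, 0⟩⟩⟩),
  (⟨⟨⟨4, 0⟩, ⟨0, 0⟩, ⟨0, 0⟩, ⟨0, 0⟩⟩, ⟨⟨0, 0⟩, ⟨0, 0⟩, ⟨0, 0⟩, ⟨0, 0⟩⟩, ⟨⟨0, 0⟩, ⟨0, 0⟩, ⟨0, 0⟩, ⟨0, 0⟩⟩⟩,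
    ⟨⟨⟨0, 0⟩, ⟨0, 0⟩, ⟨0, 0⟩, ⟨0, 0⟩⟩, ⟨⟨-4, 0⟩, ⟨0, 0⟩, ⟨0, 0⟩, ⟨0, 0⟩⟩, ⟨⟨0, 0⟩, ⟨0, 0⟩, ⟨0, 0⟩, ⟨0, 0⟩⟩⟩,
    ⟨⟨⟨0, 0⟩, ⟨0, 0⟩, ⟨0, 0⟩, ⟨0, 0⟩⟩, ⟨⟨0, 0⟩, ⟨0, 0⟩, ⟨0, 0⟩, ⟨0, 0⟩⟩, ⟨⟨4, 0⟩, ⟨0, 0⟩, ⟨0, 0⟩, ⟨0, 0⟩⟩⟩),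
  (⟨⟨⟨2, 0⟩, ⟨-2, 0⟩, ⟨2, 0⟩, ⟨-2, 0⟩⟩, ⟨⟨0, 0⟩, ⟨0, 0⟩, ⟨0, 0⟩, ⟨0, 0⟩⟩, ⟨⟨0, 0⟩, ⟨0, 0⟩, ⟨0, 0⟩, ⟨0, 0⟩⟩⟩,
    ⟨⟨⟨0, 0⟩, ⟨0, 0⟩, ⟨0, 0⟩, ⟨0, 0⟩⟩, ⟨⟨2, 0⟩, ⟨2, 0⟩, ⟨-2, 0⟩, ⟨-2, 0⟩⟩, ⟨⟨0, 0⟩, ⟨0, 0⟩, ⟨0, 0⟩, ⟨0, 0⟩⟩⟩,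
    ⟨⟨⟨0, 0⟩, ⟨0, 0⟩, ⟨0, 0⟩, ⟨0, 0⟩⟩, ⟨⟨0, 0⟩, ⟨0, 0⟩, ⟨0, 0⟩, ⟨0, 0⟩⟩, ⟨⟨2, 0⟩, ⟨-2, 0⟩, ⟨-2, 0⟩, ⟨2, 0⟩⟩⟩),
  (⟨⟨⟨2, 0⟩, ⟨2, 0⟩, ⟨-2, 0⟩, ⟨2, 0⟩⟩, ⟨⟨0, 0⟩, ⟨0, 0⟩, ⟨0, 0⟩, ⟨0, 0⟩⟩, ⟨⟨0, 0⟩, ⟨0, 0⟩, ⟨0, 0⟩, ⟨0, 0⟩⟩⟩,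
    ⟨⟨⟨0, 0⟩, ⟨0, 0⟩, ⟨0, 0⟩, ⟨0, 0⟩⟩, ⟨⟨2, 0⟩, ⟨-2, 0⟩, ⟨2, 0⟩, ⟨2, 0⟩⟩, ⟨⟨0, 0⟩, ⟨0, 0⟩, ⟨0, 0⟩, ⟨0, 0⟩⟩⟩,
    ⟨⟨⟨0, 0⟩, ⟨0, 0⟩, ⟨0, 0⟩, ⟨0, 0⟩⟩, ⟨⟨0, 0⟩, ⟨0, 0⟩, ⟨0, 0⟩, ⟨0, 0⟩⟩, ⟨⟨2, 0⟩, ⟨2, 0⟩, ⟨2, 0⟩, ⟨-2, 0⟩⟩⟩),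
  (⟨⟨⟨0, 0⟩, ⟨0, 0⟩, ⟨-2, 0⟩, ⟨-2, 0⟩⟩, ⟨⟨2, 0⟩, ⟨-2, 0⟩, ⟨0, 0⟩, ⟨0, 0⟩⟩, ⟨⟨0, 0⟩, ⟨0, 0⟩, ⟨0, 0⟩, ⟨0, 0⟩⟩⟩,
    ⟨⟨⟨-2, 0⟩, ⟨-2, 0⟩, ⟨0, 0⟩, ⟨0, 0⟩⟩, ⟨⟨0, 0⟩, ⟨0, 0⟩, ⟨-2, 0⟩, ⟨2, 0⟩⟩, ⟨⟨0, 0⟩, ⟨0, 0⟩, ⟨0, 0⟩, ⟨0, 0⟩⟩⟩,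
    ⟨⟨⟨0, 0⟩, ⟨0, 0⟩, ⟨0, 0⟩, ⟨0, 0⟩⟩, ⟨⟨0, 0⟩, ⟨0, 0⟩, ⟨0, 0⟩, ⟨0, 0⟩⟩, ⟨⟨0, 0⟩, ⟨-2, 0⟩, ⟨2, -2⟩, ⟨0, -2⟩⟩⟩),
  (⟨⟨⟨0, 0⟩, ⟨0, 0⟩, ⟨2, 0⟩, ⟨2, 0⟩⟩, ⟨⟨-2, 0⟩, ⟨2, 0⟩, ⟨0, 0⟩, ⟨0, 0⟩⟩, ⟨⟨0, 0⟩, ⟨0, 0⟩, ⟨0, 0⟩, ⟨0, 0⟩⟩⟩,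
    ⟨⟨⟨2, 0⟩, ⟨2, 0⟩, ⟨0, 0⟩, ⟨0, 0⟩⟩, ⟨⟨0, 0⟩, ⟨0, 0⟩, ⟨2, 0⟩, ⟨-2, 0⟩⟩, ⟨⟨0, 0⟩, ⟨0, 0⟩, ⟨0, 0⟩, ⟨0, 0⟩⟩⟩,
    ⟨⟨⟨0, 0⟩, ⟨0, 0⟩, ⟨0, 0⟩, ⟨0, 0⟩⟩, ⟨⟨0, 0⟩, ⟨0, 0⟩, ⟨0, 0⟩, ⟨0, 0⟩⟩, ⟨⟨0, 0⟩, ⟨2, 0⟩, ⟨-2, 2⟩, ⟨0, 2⟩⟩⟩),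
  (⟨⟨⟨0, 0⟩, ⟨0, 0⟩, ⟨0, 0⟩, ⟨4, 0⟩⟩, ⟨⟨0, 0⟩, ⟨0, 0⟩, ⟨0, 0⟩, ⟨0, 0⟩⟩, ⟨⟨0, 0⟩, ⟨0, 0⟩, ⟨0, 0⟩, ⟨0, 0⟩⟩⟩,
    ⟨⟨⟨0, 0⟩, ⟨0, 0⟩, ⟨0, 0⟩, ⟨0, 0⟩⟩, ⟨⟨0, 0⟩, ⟨0, 0⟩, ⟨4, 0⟩, ⟨0, 0⟩⟩, ⟨⟨0, 0⟩, ⟨0, 0⟩, ⟨0, 0⟩, ⟨0, 0⟩⟩⟩,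
    ⟨⟨⟨0, 0⟩, ⟨0, 0⟩, ⟨0, 0⟩, ⟨0, 0⟩⟩, ⟨⟨0, 0⟩, ⟨0, 0⟩, ⟨0, 0⟩, ⟨0, 0⟩⟩, ⟨⟨0, 0⟩, ⟨4, 0⟩, ⟨0, 0⟩, ⟨0, 0⟩⟩⟩),
  (⟨⟨⟨0, 0⟩, ⟨0, 0⟩, ⟨0, 0⟩, ⟨-4, 0⟩⟩, ⟨⟨0, 0⟩, ⟨0, 0⟩, ⟨0, 0⟩, ⟨0, 0⟩⟩, ⟨⟨0, 0⟩, ⟨0, 0⟩, ⟨0, 0⟩, ⟨0, 0⟩⟩⟩,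
    ⟨⟨⟨0, 0⟩, ⟨0, 0⟩, ⟨0, 0⟩, ⟨0, 0⟩⟩, ⟨⟨0, 0⟩, ⟨0, 0⟩, ⟨-4, 0⟩, ⟨0, 0⟩⟩, ⟨⟨0, 0⟩, ⟨0, 0⟩, ⟨0, 0⟩, ⟨0, 0⟩⟩⟩,
    ⟨⟨⟨0, 0⟩, ⟨0, 0⟩, ⟨0, 0⟩, ⟨0, 0⟩⟩, ⟨⟨0, 0⟩, ⟨0, 0⟩, ⟨0, 0⟩, ⟨0, 0⟩⟩, ⟨⟨0, 0⟩, ⟨-4, 0⟩, ⟨0, 0⟩, ⟨0, 0⟩⟩⟩),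
  (⟨⟨⟨0, 0⟩, ⟨0, 0⟩, ⟨0, 0⟩, ⟨0, 0⟩⟩, ⟨⟨0, 0⟩, ⟨0, 0⟩, ⟨0, 0⟩, ⟨0, 0⟩⟩, ⟨⟨0, 0⟩, ⟨-4, 0⟩, ⟨0, 0⟩, ⟨0, 0⟩⟩⟩,
    ⟨⟨⟨0, 0⟩, ⟨0, 0⟩, ⟨0, 0⟩, ⟨4, 0⟩⟩, ⟨⟨0, 0⟩, ⟨0, 0⟩, ⟨0, 0⟩, ⟨0, 0⟩⟩, ⟨⟨0, 0⟩, ⟨0, 0⟩, ⟨0, 0⟩, ⟨0, 0⟩⟩⟩,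
    ⟨⟨⟨0, 0⟩, ⟨0, 0⟩, ⟨0, 0⟩, ⟨0, 0⟩⟩, ⟨⟨0, 0⟩, ⟨0, 0⟩, ⟨-4, 0⟩, ⟨0, 0⟩⟩, ⟨⟨0, 0⟩, ⟨0, 0⟩, ⟨0, 0⟩, ⟨0, 0⟩⟩⟩),
  (⟨⟨⟨0, 0⟩, ⟨0, 0⟩, ⟨0, 0⟩, ⟨0, 0⟩⟩, ⟨⟨0, 0⟩, ⟨0, 0⟩, ⟨0, 0⟩, ⟨-4, 0⟩⟩, ⟨⟨0, 0⟩, ⟨0, 0⟩, ⟨0, 0⟩, ⟨0, 0⟩⟩⟩,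
    ⟨⟨⟨0, 0⟩, ⟨0, 0⟩, ⟨0, 0⟩, ⟨0, 0⟩⟩, ⟨⟨0, 0⟩, ⟨0, 0⟩, ⟨0, 0⟩, ⟨0, 0⟩⟩, ⟨⟨0, 0⟩, ⟨0, 0⟩, ⟨4, 0⟩, ⟨0, 0⟩⟩⟩,
    ⟨⟨⟨0, 0⟩, ⟨4, 0⟩, ⟨0, 0⟩, ⟨0, 0⟩⟩, ⟨⟨0, 0⟩, ⟨0, 0⟩, ⟨0, 0⟩, ⟨0, 0⟩⟩, ⟨⟨0, 0⟩, ⟨0, 0⟩, ⟨0, 0⟩, ⟨0, 0⟩⟩⟩),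
  (⟨⟨⟨0, 0⟩, ⟨0, 0⟩, ⟨0, 0⟩, ⟨0, 0⟩⟩, ⟨⟨0, 0⟩, ⟨0, 0⟩, ⟨0, 0⟩, ⟨4, 0⟩⟩, ⟨⟨0, 0⟩, ⟨0, 0⟩, ⟨0, 0⟩, ⟨0, 0⟩⟩⟩,
    ⟨⟨⟨0, 0⟩, ⟨0, 0⟩, ⟨0, 0⟩, ⟨-4, 0⟩⟩, ⟨⟨0, 0⟩, ⟨0, 0⟩, ⟨0, 0⟩, ⟨0, 0⟩⟩, ⟨⟨0, 0⟩, ⟨0, 0⟩, ⟨0, 0⟩, ⟨0, 0⟩⟩⟩,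
    ⟨⟨⟨0, 0⟩, ⟨0, 0⟩, ⟨0, 0⟩, ⟨0, 0⟩⟩, ⟨⟨0, 0⟩, ⟨0, 0⟩, ⟨0, 0⟩, ⟨0, 0⟩⟩, ⟨⟨4, 0⟩, ⟨0, 0⟩, ⟨0, 0⟩, ⟨0, 0⟩⟩⟩),
  (⟨⟨⟨0, 0⟩, ⟨0, 0⟩, ⟨0, 0⟩, ⟨0, 0⟩⟩, ⟨⟨0, 0⟩, ⟨0, 0⟩, ⟨0, 0⟩, ⟨4, 0⟩⟩, ⟨⟨0, 0⟩, ⟨0, 0⟩, ⟨0, 0⟩, ⟨0, 0⟩⟩⟩,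
    ⟨⟨⟨0, 0⟩, ⟨0, 0⟩, ⟨0, 0⟩, ⟨-4, 0⟩⟩, ⟨⟨0, 0⟩, ⟨0, 0⟩, ⟨0, 0⟩, ⟨0, 0⟩⟩, ⟨⟨0, 0⟩, ⟨0, 0⟩, ⟨0, 0⟩, ⟨0, 0⟩⟩⟩,
    ⟨⟨⟨0, 0⟩, ⟨0, 0⟩, ⟨0, 0⟩, ⟨0, 0⟩⟩, ⟨⟨0, 0⟩, ⟨0, 0⟩, ⟨0, 0⟩, ⟨0, 0⟩⟩, ⟨⟨4, 0⟩, ⟨0, 0⟩, ⟨0, 0⟩, ⟨0, 0⟩⟩⟩),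
  (⟨⟨⟨4, 0⟩, ⟨0, 0⟩, ⟨0, 0⟩, ⟨0, 0⟩⟩, ⟨⟨0, 0⟩, ⟨0, 0⟩, ⟨0, 0⟩, ⟨0, 0⟩⟩, ⟨⟨0, 0⟩, ⟨0, 0⟩, ⟨0, 0⟩, ⟨0, 0⟩⟩⟩,
    ⟨⟨⟨0, 0⟩, ⟨0, 0⟩, ⟨0, 0⟩, ⟨0, 0⟩⟩, ⟨⟨4, 0⟩, ⟨0, 0⟩, ⟨0, 0⟩, ⟨0, 0⟩⟩, ⟨⟨0, 0⟩, ⟨0, 0⟩, ⟨0, 0⟩, ⟨0, 0⟩⟩⟩,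
    ⟨⟨⟨0, 0⟩, ⟨0, 0⟩, ⟨0, 0⟩, ⟨0, 0⟩⟩, ⟨⟨0, 0⟩, ⟨0, 0⟩, ⟨0, 0⟩, ⟨0, 0⟩⟩, ⟨⟨-4, 0⟩, ⟨0, 0⟩, ⟨0, 0⟩, ⟨0, 0⟩⟩⟩),
  (⟨⟨⟨4, 0⟩, ⟨0, 0⟩, ⟨0, 0⟩, ⟨0, 0⟩⟩, ⟨⟨0, 0⟩, ⟨0, 0⟩, ⟨0, 0⟩, ⟨0, 0⟩⟩, ⟨⟨0, 0⟩, ⟨0, 0⟩, ⟨0, 0⟩, ⟨0, 0⟩⟩⟩,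
    ⟨⟨⟨0, 0⟩, ⟨0, 0⟩, ⟨0, 0⟩, ⟨0, 0⟩⟩, ⟨⟨4, 0⟩, ⟨0, 0⟩, ⟨0, 0⟩, ⟨0, 0⟩⟩, ⟨⟨0, 0⟩, ⟨0, 0⟩, ⟨0, 0⟩, ⟨0, 0⟩⟩⟩,
    ⟨⟨⟨0, 0⟩, ⟨0, 0⟩, ⟨0, 0⟩, ⟨0, 0⟩⟩, ⟨⟨0, 0⟩, ⟨0, 0⟩, ⟨0, 0⟩, ⟨0, 0⟩⟩, ⟨⟨-4, 0⟩, ⟨0, 0⟩, ⟨0, 0⟩, ⟨0, 0⟩⟩⟩)]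
def Y4 : List Ic := [⟨⟨-2, 0⟩, ⟨0, 0⟩, ⟨0, 0⟩, ⟨0, 0⟩⟩,
  ⟨⟨0, -1⟩, ⟨0, -1⟩, ⟨0, -1⟩, ⟨0, 1⟩⟩,
  ⟨⟨0, -1⟩, ⟨0, -1⟩, ⟨0, 1⟩, ⟨0, -1⟩⟩,
  ⟨⟨0, -1⟩, ⟨0, 1⟩, ⟨0, -1⟩, ⟨0, -1⟩⟩,
  ⟨⟨0, -1⟩, ⟨0, 1⟩, ⟨0, 1⟩, ⟨0, 1⟩⟩,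
  ⟨⟨0, 0⟩, ⟨-2, 0⟩, ⟨0, 0⟩, ⟨0, 0⟩⟩,
  ⟨⟨0, 0⟩, ⟨0, 0⟩, ⟨-2, 0⟩, ⟨0, 0⟩⟩,
  ⟨⟨0, 0⟩, ⟨0, 0⟩, ⟨0, 0⟩, ⟨-2, 0⟩⟩,
  ⟨⟨0, 0⟩, ⟨0, 0⟩, ⟨0, 0⟩, ⟨2, 0⟩⟩,
  ⟨⟨0, 0⟩, ⟨0, 0⟩, ⟨2, 0⟩, ⟨0, 0⟩⟩,
  ⟨⟨0, 0⟩, ⟨2, 0⟩, ⟨0, 0⟩, ⟨0, 0⟩⟩,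
  ⟨⟨0, 1⟩, ⟨0, -1⟩, ⟨0, -1⟩, ⟨0, -1⟩⟩,
  ⟨⟨0, 1⟩, ⟨0, -1⟩, ⟨0, 1⟩, ⟨0, 1⟩⟩,
  ⟨⟨0, 1⟩, ⟨0, 1⟩, ⟨0, -1⟩, ⟨0, 1⟩⟩,
  ⟨⟨0, 1⟩, ⟨0, 1⟩, ⟨0, 1⟩, ⟨0, -1⟩⟩,
  ⟨⟨2, 0⟩, ⟨0, 0⟩, ⟨0, 0⟩, ⟨0, 0⟩⟩]
def U4 : List Ic := [⟨⟨2, 0⟩, ⟨0, 0⟩, ⟨0, 0⟩, ⟨0, 0⟩⟩,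
  ⟨⟨0, 0⟩, ⟨2, 0⟩, ⟨0, 0⟩, ⟨0, 0⟩⟩,
  ⟨⟨1, 0⟩, ⟨1, -1⟩, ⟨0, 0⟩, ⟨0, 1⟩⟩,
  ⟨⟨-2, 0⟩, ⟨0, 0⟩, ⟨0, 0⟩, ⟨0, 0⟩⟩,
  ⟨⟨-1, 1⟩, ⟨1, 0⟩, ⟨0, 1⟩, ⟨0, 0⟩⟩,
  ⟨⟨-1, 1⟩, ⟨1, 0⟩, ⟨0, -1⟩, ⟨0, 0⟩⟩,
  ⟨⟨-1, 0⟩, ⟨1, -1⟩, ⟨0, 0⟩, ⟨0, 1⟩⟩,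
  ⟨⟨0, 0⟩, ⟨-2, 0⟩, ⟨0, 0⟩, ⟨0, 0⟩⟩,
  ⟨⟨-1, 0⟩, ⟨-1, 1⟩, ⟨0, 0⟩, ⟨0, -1⟩⟩,
  ⟨⟨-1, 0⟩, ⟨-1, 1⟩, ⟨0, 0⟩, ⟨0, 1⟩⟩,
  ⟨⟨-1, 1⟩, ⟨-1, 0⟩, ⟨0, 1⟩, ⟨0, 0⟩⟩,
  ⟨⟨-1, 1⟩, ⟨0, 1⟩, ⟨0, 0⟩, ⟨1, 0⟩⟩,
  ⟨⟨-1, 1⟩, ⟨-1, 0⟩, ⟨0, -1⟩, ⟨0, 0⟩⟩,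
  ⟨⟨1, -1⟩, ⟨-1, 0⟩, ⟨0, -1⟩, ⟨0, 0⟩⟩,
  ⟨⟨1, -1⟩, ⟨-1, 0⟩, ⟨0, 1⟩, ⟨0, 0⟩⟩,
  ⟨⟨1, 0⟩, ⟨-1, 1⟩, ⟨0, 0⟩, ⟨0, -1⟩⟩,
  ⟨⟨0, -1⟩, ⟨-1, 1⟩, ⟨1, 0⟩, ⟨0, 0⟩⟩,
  ⟨⟨1, 0⟩, ⟨-1, 1⟩, ⟨0, 0⟩, ⟨0, 1⟩⟩,
  ⟨⟨0, -1⟩, ⟨-1, 1⟩, ⟨-1, 0⟩, ⟨0, 0⟩⟩,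
  ⟨⟨0, 0⟩, ⟨-1, 1⟩, ⟨0, 1⟩, ⟨1, 0⟩⟩,
  ⟨⟨0, 0⟩, ⟨-1, 1⟩, ⟨0, -1⟩, ⟨1, 0⟩⟩,
  ⟨⟨1, 0⟩, ⟨1, -1⟩, ⟨0, 0⟩, ⟨0, -1⟩⟩,
  ⟨⟨1, -1⟩, ⟨1, 0⟩, ⟨0, -1⟩, ⟨0, 0⟩⟩,
  ⟨⟨1, -1⟩, ⟨0, -1⟩, ⟨0, 0⟩, ⟨-1, 0⟩⟩,
  ⟨⟨1, -1⟩, ⟨1, 0⟩, ⟨0, 1⟩, ⟨0, 0⟩⟩,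
  ⟨⟨1, -1⟩, ⟨0, -1⟩, ⟨0, 0⟩, ⟨1, 0⟩⟩,
  ⟨⟨1, -1⟩, ⟨0, 0⟩, ⟨1, 0⟩, ⟨0, -1⟩⟩,
  ⟨⟨1, -1⟩, ⟨0, 0⟩, ⟨1, 0⟩, ⟨0, 1⟩⟩,
  ⟨⟨1, -1⟩, ⟨0, 1⟩, ⟨0, 0⟩, ⟨-1, 0⟩⟩,
  ⟨⟨1, -1⟩, ⟨0, 0⟩, ⟨-1, 0⟩, ⟨0, 1⟩⟩,
  ⟨⟨1, -1⟩, ⟨0, 0⟩, ⟨-1, 0⟩, ⟨0, -1⟩⟩,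
  ⟨⟨1, -1⟩, ⟨0, 1⟩, ⟨0, 0⟩, ⟨1, 0⟩⟩,
  ⟨⟨0, 1⟩, ⟨1, -1⟩, ⟨-1, 0⟩, ⟨0, 0⟩⟩,
  ⟨⟨-1, 0⟩, ⟨1, -1⟩, ⟨0, 0⟩, ⟨0, -1⟩⟩,
  ⟨⟨0, 1⟩, ⟨1, -1⟩, ⟨1, 0⟩, ⟨0, 0⟩⟩,
  ⟨⟨0, 0⟩, ⟨1, -1⟩, ⟨0, -1⟩, ⟨-1, 0⟩⟩,
  ⟨⟨0, 0⟩, ⟨1, -1⟩, ⟨0, 1⟩, ⟨-1, 0⟩⟩,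
  ⟨⟨0, -1⟩, ⟨1, -1⟩, ⟨-1, 0⟩, ⟨0, 0⟩⟩,
  ⟨⟨0, 0⟩, ⟨1, -1⟩, ⟨0, 1⟩, ⟨1, 0⟩⟩,
  ⟨⟨0, 0⟩, ⟨1, -1⟩, ⟨0, -1⟩, ⟨1, 0⟩⟩,
  ⟨⟨0, -1⟩, ⟨1, -1⟩, ⟨1, 0⟩, ⟨0, 0⟩⟩,
  ⟨⟨1, 0⟩, ⟨1, 0⟩, ⟨1, 0⟩, ⟨-1, 0⟩⟩,
  ⟨⟨0, -1⟩, ⟨1, 0⟩, ⟨0, 0⟩, ⟨-1, 1⟩⟩,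
  ⟨⟨1, 0⟩, ⟨1, 0⟩, ⟨-1, 0⟩, ⟨-1, 0⟩⟩,
  ⟨⟨-1, 1⟩, ⟨0, 1⟩, ⟨0, 0⟩, ⟨-1, 0⟩⟩,
  ⟨⟨-1, 1⟩, ⟨0, 0⟩, ⟨-1, 0⟩, ⟨0, 1⟩⟩,
  ⟨⟨-1, 1⟩, ⟨0, 0⟩, ⟨-1, 0⟩, ⟨0, -1⟩⟩,
  ⟨⟨-1, 1⟩, ⟨0, -1⟩, ⟨0, 0⟩, ⟨1, 0⟩⟩,
  ⟨⟨-1, 1⟩, ⟨0, 0⟩, ⟨1, 0⟩, ⟨0, -1⟩⟩,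
  ⟨⟨-1, 1⟩, ⟨0, 0⟩, ⟨1, 0⟩, ⟨0, 1⟩⟩,
  ⟨⟨-1, 1⟩, ⟨0, -1⟩, ⟨0, 0⟩, ⟨-1, 0⟩⟩,
  ⟨⟨-1, 0⟩, ⟨1, 0⟩, ⟨-1, 0⟩, ⟨-1, 0⟩⟩,
  ⟨⟨-1, 0⟩, ⟨0, -1⟩, ⟨-1, 1⟩, ⟨0, 0⟩⟩,
  ⟨⟨-1, 0⟩, ⟨1, 0⟩, ⟨-1, 0⟩, ⟨1, 0⟩⟩,
  ⟨⟨-1, 0⟩, ⟨1, 0⟩, ⟨1, 0⟩, ⟨1, 0⟩⟩,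
  ⟨⟨-1, 0⟩, ⟨0, -1⟩, ⟨1, -1⟩, ⟨0, 0⟩⟩,
  ⟨⟨-1, 0⟩, ⟨1, 0⟩, ⟨1, 0⟩, ⟨-1, 0⟩⟩,
  ⟨⟨0, 1⟩, ⟨1, 0⟩, ⟨0, 0⟩, ⟨-1, 1⟩⟩,
  ⟨⟨0, 1⟩, ⟨-1, 1⟩, ⟨1, 0⟩, ⟨0, 0⟩⟩,
  ⟨⟨0, 0⟩, ⟨-1, 1⟩, ⟨0, -1⟩, ⟨-1, 0⟩⟩,
  ⟨⟨0, 0⟩, ⟨-1, 1⟩, ⟨0, 1⟩, ⟨-1, 0⟩⟩,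
  ⟨⟨0, 1⟩, ⟨-1, 1⟩, ⟨-1, 0⟩, ⟨0, 0⟩⟩,
  ⟨⟨-1, 0⟩, ⟨-1, 0⟩, ⟨-1, 0⟩, ⟨1, 0⟩⟩,
  ⟨⟨0, 1⟩, ⟨-1, 0⟩, ⟨0, 0⟩, ⟨1, -1⟩⟩,
  ⟨⟨-1, 0⟩, ⟨-1, 0⟩, ⟨1, 0⟩, ⟨1, 0⟩⟩,
  ⟨⟨-1, 0⟩, ⟨-1, 0⟩, ⟨1, 0⟩, ⟨-1, 0⟩⟩,
  ⟨⟨0, 1⟩, ⟨-1, 0⟩, ⟨0, 0⟩, ⟨-1, 1⟩⟩,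
  ⟨⟨-1, 0⟩, ⟨-1, 0⟩, ⟨-1, 0⟩, ⟨-1, 0⟩⟩,
  ⟨⟨-1, 0⟩, ⟨0, 1⟩, ⟨-1, 1⟩, ⟨0, 0⟩⟩,
  ⟨⟨-1, 0⟩, ⟨0, 0⟩, ⟨0, 1⟩, ⟨1, -1⟩⟩,
  ⟨⟨-1, 0⟩, ⟨0, 0⟩, ⟨0, -1⟩, ⟨1, -1⟩⟩,
  ⟨⟨-1, 0⟩, ⟨0, 1⟩, ⟨1, -1⟩, ⟨0, 0⟩⟩,
  ⟨⟨1, 0⟩, ⟨-1, 0⟩, ⟨1, 0⟩, ⟨1, 0⟩⟩,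
  ⟨⟨1, 0⟩, ⟨0, 1⟩, ⟨1, -1⟩, ⟨0, 0⟩⟩,
  ⟨⟨1, 0⟩, ⟨-1, 0⟩, ⟨1, 0⟩, ⟨-1, 0⟩⟩,
  ⟨⟨1, 0⟩, ⟨-1, 0⟩, ⟨-1, 0⟩, ⟨-1, 0⟩⟩,
  ⟨⟨1, 0⟩, ⟨0, 1⟩, ⟨-1, 1⟩, ⟨0, 0⟩⟩,
  ⟨⟨1, 0⟩, ⟨-1, 0⟩, ⟨-1, 0⟩, ⟨1, 0⟩⟩,
  ⟨⟨0, -1⟩, ⟨-1, 0⟩, ⟨0, 0⟩, ⟨1, -1⟩⟩,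
  ⟨⟨0, 0⟩, ⟨-1, 0⟩, ⟨1, -1⟩, ⟨0, -1⟩⟩,
  ⟨⟨0, 0⟩, ⟨-1, 0⟩, ⟨1, -1⟩, ⟨0, 1⟩⟩,
  ⟨⟨0, -1⟩, ⟨-1, 0⟩, ⟨0, 0⟩, ⟨-1, 1⟩⟩,
  ⟨⟨0, 0⟩, ⟨-1, 0⟩, ⟨-1, 1⟩, ⟨0, 1⟩⟩,
  ⟨⟨0, 0⟩, ⟨-1, 0⟩, ⟨-1, 1⟩, ⟨0, -1⟩⟩,
  ⟨⟨0, 0⟩, ⟨0, 1⟩, ⟨-1, 0⟩, ⟨1, -1⟩⟩,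
  ⟨⟨0, 0⟩, ⟨0, 1⟩, ⟨1, 0⟩, ⟨1, -1⟩⟩,
  ⟨⟨1, 0⟩, ⟨1, 0⟩, ⟨-1, 0⟩, ⟨1, 0⟩⟩,
  ⟨⟨0, -1⟩, ⟨1, 0⟩, ⟨0, 0⟩, ⟨1, -1⟩⟩,
  ⟨⟨1, 0⟩, ⟨1, 0⟩, ⟨1, 0⟩, ⟨1, 0⟩⟩,
  ⟨⟨1, 0⟩, ⟨0, -1⟩, ⟨1, -1⟩, ⟨0, 0⟩⟩,
  ⟨⟨1, 0⟩, ⟨0, 0⟩, ⟨0, -1⟩, ⟨-1, 1⟩⟩,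
  ⟨⟨1, 0⟩, ⟨0, 0⟩, ⟨0, 1⟩, ⟨-1, 1⟩⟩,
  ⟨⟨1, 0⟩, ⟨0, -1⟩, ⟨-1, 1⟩, ⟨0, 0⟩⟩,
  ⟨⟨1, 0⟩, ⟨0, 0⟩, ⟨0, 1⟩, ⟨1, -1⟩⟩,
  ⟨⟨1, 0⟩, ⟨0, 0⟩, ⟨0, -1⟩, ⟨1, -1⟩⟩,
  ⟨⟨0, -1⟩, ⟨0, 0⟩, ⟨1, -1⟩, ⟨1, 0⟩⟩,
  ⟨⟨0, -1⟩, ⟨0, 0⟩, ⟨1, -1⟩, ⟨-1, 0⟩⟩,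
  ⟨⟨0, -1⟩, ⟨0, 0⟩, ⟨-1, 1⟩, ⟨-1, 0⟩⟩,
  ⟨⟨0, -1⟩, ⟨0, 0⟩, ⟨-1, 1⟩, ⟨1, 0⟩⟩,
  ⟨⟨0, 0⟩, ⟨1, 0⟩, ⟨-1, 1⟩, ⟨0, 1⟩⟩,
  ⟨⟨0, 0⟩, ⟨1, 0⟩, ⟨-1, 1⟩, ⟨0, -1⟩⟩,
  ⟨⟨0, 1⟩, ⟨1, 0⟩, ⟨0, 0⟩, ⟨1, -1⟩⟩,
  ⟨⟨0, 0⟩, ⟨1, 0⟩, ⟨1, -1⟩, ⟨0, -1⟩⟩,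
  ⟨⟨0, 0⟩, ⟨1, 0⟩, ⟨1, -1⟩, ⟨0, 1⟩⟩,
  ⟨⟨0, 0⟩, ⟨0, -1⟩, ⟨1, 0⟩, ⟨-1, 1⟩⟩,
  ⟨⟨0, 0⟩, ⟨0, -1⟩, ⟨-1, 0⟩, ⟨-1, 1⟩⟩,
  ⟨⟨0, 0⟩, ⟨0, -1⟩, ⟨-1, 0⟩, ⟨1, -1⟩⟩,
  ⟨⟨0, 0⟩, ⟨0, -1⟩, ⟨1, 0⟩, ⟨1, -1⟩⟩,
  ⟨⟨0, 0⟩, ⟨0, 0⟩, ⟨0, 0⟩, ⟨-2, 0⟩⟩,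
  ⟨⟨-1, 0⟩, ⟨0, 0⟩, ⟨0, -1⟩, ⟨-1, 1⟩⟩,
  ⟨⟨-1, 0⟩, ⟨0, 0⟩, ⟨0, 1⟩, ⟨-1, 1⟩⟩,
  ⟨⟨0, 1⟩, ⟨0, 0⟩, ⟨-1, 1⟩, ⟨-1, 0⟩⟩,
  ⟨⟨0, 1⟩, ⟨0, 0⟩, ⟨-1, 1⟩, ⟨1, 0⟩⟩,
  ⟨⟨0, 1⟩, ⟨0, 0⟩, ⟨1, -1⟩, ⟨1, 0⟩⟩,
  ⟨⟨0, 1⟩, ⟨0, 0⟩, ⟨1, -1⟩, ⟨-1, 0⟩⟩,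
  ⟨⟨0, 0⟩, ⟨0, 0⟩, ⟨-2, 0⟩, ⟨0, 0⟩⟩,
  ⟨⟨0, 0⟩, ⟨0, 0⟩, ⟨2, 0⟩, ⟨0, 0⟩⟩,
  ⟨⟨0, 0⟩, ⟨0, 1⟩, ⟨1, 0⟩, ⟨-1, 1⟩⟩,
  ⟨⟨0, 0⟩, ⟨0, 1⟩, ⟨-1, 0⟩, ⟨-1, 1⟩⟩,
  ⟨⟨0, 0⟩, ⟨0, 0⟩, ⟨0, 0⟩, ⟨2, 0⟩⟩]
def NW : List (V × List Nat × Ic) := [(⟨⟨⟨2, 0⟩, ⟨0, 0⟩, ⟨0, 0⟩, ⟨0, 0⟩⟩, ⟨⟨0, 0⟩, ⟨-2, 0⟩, ⟨0, 0⟩, ⟨0, 0⟩⟩, ⟨⟨-1, 0⟩, ⟨-1, 0⟩, ⟨-1, 0⟩, ⟨1, -2⟩⟩⟩, [3, 5, 7, 3, 7, 1, 3, 1, 7], ⟨⟨-1, 0⟩, ⟨-1, 1⟩, ⟨0, 0⟩, ⟨0, -1⟩⟩),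
  (⟨⟨⟨2, 0⟩, ⟨0, 0⟩, ⟨0, 0⟩, ⟨0, 0⟩⟩, ⟨⟨0, 0⟩, ⟨2, 0⟩, ⟨0, 0⟩, ⟨0, 0⟩⟩, ⟨⟨-1, 0⟩, ⟨-1, 0⟩, ⟨-1, 0⟩, ⟨1, -2⟩⟩⟩, [3, 7, 3, 7, 1, 3, 1, 7], ⟨⟨-1, 0⟩, ⟨-1, 1⟩, ⟨0, 0⟩, ⟨0, -1⟩⟩),
  (⟨⟨⟨2, 0⟩, ⟨0, 0⟩, ⟨0, 0⟩, ⟨0, 0⟩⟩, ⟨⟨0, 0⟩, ⟨0, 0⟩, ⟨-2, 0⟩, ⟨0, 0⟩⟩, ⟨⟨-1, 0⟩, ⟨-1, 0⟩, ⟨-1, 2⟩, ⟨1, 0⟩⟩⟩, [3, 5, 3, 7, 3], ⟨⟨0, 0⟩, ⟨0, 0⟩, ⟨2, 0⟩, ⟨0, 0⟩⟩),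
  (⟨⟨⟨2, 0⟩, ⟨0, 0⟩, ⟨0, 0⟩, ⟨0, 0⟩⟩, ⟨⟨0, 0⟩, ⟨0, 0⟩, ⟨2, 0⟩, ⟨0, 0⟩⟩, ⟨⟨-1, 0⟩, ⟨-1, 0⟩, ⟨-1, 2⟩, ⟨1, 0⟩⟩⟩, [7, 3], ⟨⟨0, 0⟩, ⟨0, 0⟩, ⟨2, 0⟩, ⟨0, 0⟩⟩),
  (⟨⟨⟨2, 0⟩, ⟨0, 0⟩, ⟨0, 0⟩, ⟨0, 0⟩⟩, ⟨⟨0, 0⟩, ⟨0, 0⟩, ⟨0, 0⟩, ⟨-2, 0⟩⟩, ⟨⟨-1, 0⟩, ⟨-1, 0⟩, ⟨1, -2⟩, ⟨-1, 0⟩⟩⟩, [3, 7, 1, 3, 7, 3, 7, 3], ⟨⟨0, 0⟩, ⟨-1, 1⟩, ⟨0, -1⟩, ⟨-1, 0⟩⟩),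
  (⟨⟨⟨2, 0⟩, ⟨0, 0⟩, ⟨0, 0⟩, ⟨0, 0⟩⟩, ⟨⟨0, 0⟩, ⟨0, 0⟩, ⟨0, 0⟩, ⟨2, 0⟩⟩, ⟨⟨-1, 0⟩, ⟨-1, 0⟩, ⟨1, -2⟩, ⟨-1, 0⟩⟩⟩, [3, 7, 3, 7, 1, 3, 7, 1, 3], ⟨⟨1, -1⟩, ⟨0, 0⟩, ⟨-1, 0⟩, ⟨0, -1⟩⟩),
  (⟨⟨⟨2, 0⟩, ⟨0, 0⟩, ⟨0, 0⟩, ⟨0, 0⟩⟩, ⟨⟨-2, 0⟩, ⟨0, 0⟩, ⟨0, 0⟩, ⟨0, 0⟩⟩, ⟨⟨-1, 0⟩, ⟨-1, 0⟩, ⟨1, 0⟩, ⟨-1, 2⟩⟩⟩, [7, 3, 1, 7, 1, 3, 7, 3], ⟨⟨-2, 0⟩, ⟨0, 0⟩, ⟨0, 0⟩, ⟨0, 0⟩⟩),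
  (⟨⟨⟨2, 0⟩, ⟨0, 0⟩, ⟨0, 0⟩, ⟨0, 0⟩⟩, ⟨⟨2, 0⟩, ⟨0, 0⟩, ⟨0, 0⟩, ⟨0, 0⟩⟩, ⟨⟨-1, 0⟩, ⟨-1, 0⟩, ⟨1, 0⟩, ⟨-1, 2⟩⟩⟩, [7, 5, 3, 5, 1, 7, 3], ⟨⟨1, -1⟩, ⟨-1, 0⟩, ⟨0, -1⟩, ⟨0, 0⟩⟩),
  (⟨⟨⟨2, 0⟩, ⟨0, 0⟩, ⟨0, 0⟩, ⟨0, 0⟩⟩, ⟨⟨-2, 0⟩, ⟨0, 0⟩, ⟨0, 0⟩, ⟨0, 0⟩⟩, ⟨⟨-1, 0⟩, ⟨-1, 2⟩, ⟨-1, 0⟩, ⟨1, 0⟩⟩⟩, [7, 3, 1, 7, 1, 3], ⟨⟨1, -1⟩, ⟨1, 0⟩, ⟨0, -1⟩, ⟨0, 0⟩⟩),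
  (⟨⟨⟨2, 0⟩, ⟨0, 0⟩, ⟨0, 0⟩, ⟨0, 0⟩⟩, ⟨⟨2, 0⟩, ⟨0, 0⟩, ⟨0, 0⟩, ⟨0, 0⟩⟩, ⟨⟨-1, 0⟩, ⟨-1, 2⟩, ⟨-1, 0⟩, ⟨1, 0⟩⟩⟩, [7, 1, 3, 7, 3, 5, 7, 3], ⟨⟨-1, 1⟩, ⟨0, 0⟩, ⟨1, 0⟩, ⟨0, -1⟩⟩),
  (⟨⟨⟨2, 0⟩, ⟨0, 0⟩, ⟨0, 0⟩, ⟨0, 0⟩⟩, ⟨⟨0, 0⟩, ⟨-2, 0⟩, ⟨0, 0⟩, ⟨0, 0⟩⟩, ⟨⟨-1, 0⟩, ⟨-1, 2⟩, ⟨1, 0⟩, ⟨-1, 0⟩⟩⟩, [3, 7, 3, 7, 1, 3, 7, 3, 7], ⟨⟨1, -1⟩, ⟨0, 0⟩, ⟨1, 0⟩, ⟨0, -1⟩⟩),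
  (⟨⟨⟨2, 0⟩, ⟨0, 0⟩, ⟨0, 0⟩, ⟨0, 0⟩⟩, ⟨⟨0, 0⟩, ⟨2, 0⟩, ⟨0, 0⟩, ⟨0, 0⟩⟩, ⟨⟨-1, 0⟩, ⟨-1, 2⟩, ⟨1, 0⟩, ⟨-1, 0⟩⟩⟩, [7, 5, 1, 7, 3, 1, 7, 3, 7, 3], ⟨⟨-1, 0⟩, ⟨-1, 1⟩, ⟨0, 0⟩, ⟨0, -1⟩⟩),
  (⟨⟨⟨2, 0⟩, ⟨0, 0⟩, ⟨0, 0⟩, ⟨0, 0⟩⟩, ⟨⟨0, 0⟩, ⟨0, 0⟩, ⟨-2, 0⟩, ⟨0, 0⟩⟩, ⟨⟨-1, 0⟩, ⟨1, -2⟩, ⟨-1, 0⟩, ⟨-1, 0⟩⟩⟩, [3, 7, 3, 5, 7, 3, 7, 5, 1, 3, 7], ⟨⟨0, -1⟩, ⟨1, -1⟩, ⟨-1, 0⟩, ⟨0, 0⟩⟩),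
  (⟨⟨⟨2, 0⟩, ⟨0, 0⟩, ⟨0, 0⟩, ⟨0, 0⟩⟩, ⟨⟨0, 0⟩, ⟨0, 0⟩, ⟨2, 0⟩, ⟨0, 0⟩⟩, ⟨⟨-1, 0⟩, ⟨1, -2⟩, ⟨-1, 0⟩, ⟨-1, 0⟩⟩⟩, [1, 3, 7, 5, 3, 1, 7, 3, 7, 3], ⟨⟨0, 0⟩, ⟨1, -1⟩, ⟨0, 1⟩, ⟨1, 0⟩⟩),
  (⟨⟨⟨2, 0⟩, ⟨0, 0⟩, ⟨0, 0⟩, ⟨0, 0⟩⟩, ⟨⟨0, 0⟩, ⟨0, 0⟩, ⟨0, 0⟩, ⟨-2, 0⟩⟩, ⟨⟨-1, 0⟩, ⟨1, -2⟩, ⟨1, 0⟩, ⟨1, 0⟩⟩⟩, [1, 3, 7, 3, 7, 1, 3, 5, 7, 3], ⟨⟨0, 0⟩, ⟨1, -1⟩, ⟨0, -1⟩, ⟨-1, 0⟩⟩),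
  (⟨⟨⟨2, 0⟩, ⟨0, 0⟩, ⟨0, 0⟩, ⟨0, 0⟩⟩, ⟨⟨0, 0⟩, ⟨0, 0⟩, ⟨0, 0⟩, ⟨2, 0⟩⟩, ⟨⟨-1, 0⟩, ⟨1, -2⟩, ⟨1, 0⟩, ⟨1, 0⟩⟩⟩, [1, 7, 3, 7, 3, 1, 7, 1, 3], ⟨⟨0, 0⟩, ⟨1, -1⟩, ⟨0, 1⟩, ⟨1, 0⟩⟩),
  (⟨⟨⟨2, 0⟩, ⟨0, 0⟩, ⟨0, 0⟩, ⟨0, 0⟩⟩, ⟨⟨0, 0⟩, ⟨0, 0⟩, ⟨0, 0⟩, ⟨-2, 0⟩⟩, ⟨⟨-1, 0⟩, ⟨1, 0⟩, ⟨-1, 0⟩, ⟨-1, 2⟩⟩⟩, [1, 7, 3, 7, 3, 1, 7, 3, 7, 3], ⟨⟨0, 0⟩, ⟨1, -1⟩, ⟨0, -1⟩, ⟨1, 0⟩⟩),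
  (⟨⟨⟨2, 0⟩, ⟨0, 0⟩, ⟨0, 0⟩, ⟨0, 0⟩⟩, ⟨⟨0, 0⟩, ⟨0, 0⟩, ⟨0, 0⟩, ⟨2, 0⟩⟩, ⟨⟨-1, 0⟩, ⟨1, 0⟩, ⟨-1, 0⟩, ⟨-1, 2⟩⟩⟩, [7, 5, 3, 7, 3, 5, 1, 7, 3], ⟨⟨0, 0⟩, ⟨1, -1⟩, ⟨0, -1⟩, ⟨1, 0⟩⟩),
  (⟨⟨⟨2, 0⟩, ⟨0, 0⟩, ⟨0, 0⟩, ⟨0, 0⟩⟩, ⟨⟨-2, 0⟩, ⟨0, 0⟩, ⟨0, 0⟩, ⟨0, 0⟩⟩, ⟨⟨-1, 0⟩, ⟨1, 0⟩, ⟨-1, 2⟩, ⟨-1, 0⟩⟩⟩, [1, 3, 7, 5, 7, 1, 3, 7, 3], ⟨⟨2, 0⟩, ⟨0, 0⟩, ⟨0, 0⟩, ⟨0, 0⟩⟩),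
  (⟨⟨⟨2, 0⟩, ⟨0, 0⟩, ⟨0, 0⟩, ⟨0, 0⟩⟩, ⟨⟨2, 0⟩, ⟨0, 0⟩, ⟨0, 0⟩, ⟨0, 0⟩⟩, ⟨⟨-1, 0⟩, ⟨1, 0⟩, ⟨-1, 2⟩, ⟨-1, 0⟩⟩⟩, [3, 1, 7, 3, 7, 5, 3, 7], ⟨⟨1, 0⟩, ⟨1, 0⟩, ⟨-1, 0⟩, ⟨1, 0⟩⟩),
  (⟨⟨⟨2, 0⟩, ⟨0, 0⟩, ⟨0, 0⟩, ⟨0, 0⟩⟩, ⟨⟨0, 0⟩, ⟨-2, 0⟩, ⟨0, 0⟩, ⟨0, 0⟩⟩, ⟨⟨-1, 0⟩, ⟨1, 0⟩, ⟨1, -2⟩, ⟨1, 0⟩⟩⟩, [1, 3, 7, 3, 7, 1, 3, 1, 7], ⟨⟨-1, 1⟩, ⟨1, 0⟩, ⟨0, -1⟩, ⟨0, 0⟩⟩),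
  (⟨⟨⟨2, 0⟩, ⟨0, 0⟩, ⟨0, 0⟩, ⟨0, 0⟩⟩, ⟨⟨0, 0⟩, ⟨2, 0⟩, ⟨0, 0⟩, ⟨0, 0⟩⟩, ⟨⟨-1, 0⟩, ⟨1, 0⟩, ⟨1, -2⟩, ⟨1, 0⟩⟩⟩, [3, 7, 5, 3, 5, 1, 7, 3, 7], ⟨⟨1, 0⟩, ⟨0, -1⟩, ⟨-1, 1⟩, ⟨0, 0⟩⟩),
  (⟨⟨⟨2, 0⟩, ⟨0, 0⟩, ⟨0, 0⟩, ⟨0, 0⟩⟩, ⟨⟨0, 0⟩, ⟨0, 0⟩, ⟨-2, 0⟩, ⟨0, 0⟩⟩, ⟨⟨-1, 0⟩, ⟨1, 0⟩, ⟨1, 0⟩, ⟨1, -2⟩⟩⟩, [3, 7, 5, 3, 1, 7, 3, 7, 3], ⟨⟨0, 1⟩, ⟨-1, 0⟩, ⟨0, 0⟩, ⟨1, -1⟩⟩),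
  (⟨⟨⟨2, 0⟩, ⟨0, 0⟩, ⟨0, 0⟩, ⟨0, 0⟩⟩, ⟨⟨0, 0⟩, ⟨0, 0⟩, ⟨2, 0⟩, ⟨0, 0⟩⟩, ⟨⟨-1, 0⟩, ⟨1, 0⟩, ⟨1, 0⟩, ⟨1, -2⟩⟩⟩, [3, 5, 7, 5, 3, 1, 7, 3, 7, 3], ⟨⟨0, 1⟩, ⟨-1, 0⟩, ⟨0, 0⟩, ⟨1, -1⟩⟩),
  (⟨⟨⟨2, 0⟩, ⟨0, 0⟩, ⟨0, 0⟩, ⟨0, 0⟩⟩, ⟨⟨0, -1⟩, ⟨0, 1⟩, ⟨0, 1⟩, ⟨0, 1⟩⟩, ⟨⟨-1, 1⟩, ⟨-1, 1⟩, ⟨-1, 1⟩, ⟨-1, 1⟩⟩⟩, [3, 7, 1, 3, 5, 7, 3, 7], ⟨⟨0, 0⟩, ⟨1, -1⟩, ⟨0, 1⟩, ⟨-1, 0⟩⟩),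
  (⟨⟨⟨2, 0⟩, ⟨0, 0⟩, ⟨0, 0⟩, ⟨0, 0⟩⟩, ⟨⟨0, 1⟩, ⟨0, -1⟩, ⟨0, -1⟩, ⟨0, -1⟩⟩, ⟨⟨-1, 1⟩, ⟨-1, 1⟩, ⟨-1, 1⟩, ⟨-1, 1⟩⟩⟩, [7, 1, 3, 7, 3, 1, 7], ⟨⟨-1, 0⟩, ⟨-1, 0⟩, ⟨-1, 0⟩, ⟨-1, 0⟩⟩),
  (⟨⟨⟨2, 0⟩, ⟨0, 0⟩, ⟨0, 0⟩, ⟨0, 0⟩⟩, ⟨⟨0, -1⟩, ⟨0, -1⟩, ⟨0, -1⟩, ⟨0, 1⟩⟩, ⟨⟨-1, 1⟩, ⟨-1, 1⟩, ⟨1, -1⟩, ⟨1, -1⟩⟩⟩, [7, 5, 3, 7, 3, 7, 3], ⟨⟨0, 0⟩, ⟨0, 0⟩, ⟨2, 0⟩, ⟨0, 0⟩⟩),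
  (⟨⟨⟨2, 0⟩, ⟨0, 0⟩, ⟨0, 0⟩, ⟨0, 0⟩⟩, ⟨⟨0, 1⟩, ⟨0, 1⟩, ⟨0, 1⟩, ⟨0, -1⟩⟩, ⟨⟨-1, 1⟩, ⟨-1, 1⟩, ⟨1, -1⟩, ⟨1, -1⟩⟩⟩, [5, 7, 3, 7, 3], ⟨⟨1, 0⟩, ⟨1, 0⟩, ⟨1, 0⟩, ⟨-1, 0⟩⟩),
  (⟨⟨⟨2, 0⟩, ⟨0, 0⟩, ⟨0, 0⟩, ⟨0, 0⟩⟩, ⟨⟨0, -1⟩, ⟨0, 1⟩, ⟨0, -1⟩, ⟨0, -1⟩⟩, ⟨⟨-1, 1⟩, ⟨1, -1⟩, ⟨-1, 1⟩, ⟨1, -1⟩⟩⟩, [1, 3, 5, 7, 3, 7], ⟨⟨-2, 0⟩, ⟨0, 0⟩, ⟨0, 0⟩, ⟨0, 0⟩⟩),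
  (⟨⟨⟨2, 0⟩, ⟨0, 0⟩, ⟨0, 0⟩, ⟨0, 0⟩⟩, ⟨⟨0, 1⟩, ⟨0, -1⟩, ⟨0, 1⟩, ⟨0, 1⟩⟩, ⟨⟨-1, 1⟩, ⟨1, -1⟩, ⟨-1, 1⟩, ⟨1, -1⟩⟩⟩, [5, 1, 3, 7, 3, 7], ⟨⟨2, 0⟩, ⟨0, 0⟩, ⟨0, 0⟩, ⟨0, 0⟩⟩),
  (⟨⟨⟨2, 0⟩, ⟨0, 0⟩, ⟨0, 0⟩, ⟨0, 0⟩⟩, ⟨⟨0, -1⟩, ⟨0, -1⟩, ⟨0, 1⟩, ⟨0, -1⟩⟩, ⟨⟨-1, 1⟩, ⟨1, -1⟩, ⟨1, -1⟩, ⟨-1, 1⟩⟩⟩, [7, 1, 3, 7, 1, 3], ⟨⟨1, -1⟩, ⟨-1, 0⟩, ⟨0, 1⟩, ⟨0, 0⟩⟩),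
  (⟨⟨⟨2, 0⟩, ⟨0, 0⟩, ⟨0, 0⟩, ⟨0, 0⟩⟩, ⟨⟨0, 1⟩, ⟨0, 1⟩, ⟨0, -1⟩, ⟨0, 1⟩⟩, ⟨⟨-1, 1⟩, ⟨1, -1⟩, ⟨1, -1⟩, ⟨-1, 1⟩⟩⟩, [1, 3, 7, 3, 1, 7, 3], ⟨⟨1, 0⟩, ⟨-1, 1⟩, ⟨0, 0⟩, ⟨0, 1⟩⟩),
  (⟨⟨⟨2, 0⟩, ⟨0, 0⟩, ⟨0, 0⟩, ⟨0, 0⟩⟩, ⟨⟨0, 0⟩, ⟨0, 0⟩, ⟨0, 0⟩, ⟨-2, 0⟩⟩, ⟨⟨-1, 2⟩, ⟨-1, 0⟩, ⟨-1, 0⟩, ⟨1, 0⟩⟩⟩, [7, 5, 3, 5, 1, 7, 3, 7, 3], ⟨⟨1, 0⟩, ⟨0, -1⟩, ⟨-1, 1⟩, ⟨0, 0⟩⟩),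
  (⟨⟨⟨2, 0⟩, ⟨0, 0⟩, ⟨0, 0⟩, ⟨0, 0⟩⟩, ⟨⟨0, 0⟩, ⟨0, 0⟩, ⟨0, 0⟩, ⟨2, 0⟩⟩, ⟨⟨-1, 2⟩, ⟨-1, 0⟩, ⟨-1, 0⟩, ⟨1, 0⟩⟩⟩, [5, 7, 3, 7, 3, 1, 7, 3, 7, 3], ⟨⟨-1, 0⟩, ⟨0, 1⟩, ⟨1, -1⟩, ⟨0, 0⟩⟩),
  (⟨⟨⟨2, 0⟩, ⟨0, 0⟩, ⟨0, 0⟩, ⟨0, 0⟩⟩, ⟨⟨0, 0⟩, ⟨0, 0⟩, ⟨-2, 0⟩, ⟨0, 0⟩⟩, ⟨⟨-1, 2⟩, ⟨-1, 0⟩, ⟨1, 0⟩, ⟨-1, 0⟩⟩⟩, [1, 7, 3], ⟨⟨2, 0⟩, ⟨0, 0⟩, ⟨0, 0⟩, ⟨0, 0⟩⟩),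
  (⟨⟨⟨2, 0⟩, ⟨0, 0⟩, ⟨0, 0⟩, ⟨0, 0⟩⟩, ⟨⟨0, 0⟩, ⟨0, 0⟩, ⟨2, 0⟩, ⟨0, 0⟩⟩, ⟨⟨-1, 2⟩, ⟨-1, 0⟩, ⟨1, 0⟩, ⟨-1, 0⟩⟩⟩, [3, 5, 3, 1, 7, 3], ⟨⟨2, 0⟩, ⟨0, 0⟩, ⟨0, 0⟩, ⟨0, 0⟩⟩),
  (⟨⟨⟨2, 0⟩, ⟨0, 0⟩, ⟨0, 0⟩, ⟨0, 0⟩⟩, ⟨⟨0, 0⟩, ⟨-2, 0⟩, ⟨0, 0⟩, ⟨0, 0⟩⟩, ⟨⟨-1, 2⟩, ⟨1, 0⟩, ⟨-1, 0⟩, ⟨-1, 0⟩⟩⟩, [7, 1, 3, 7, 5, 1, 3, 7, 3], ⟨⟨0, 0⟩, ⟨1, -1⟩, ⟨0, 1⟩, ⟨1, 0⟩⟩),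
  (⟨⟨⟨2, 0⟩, ⟨0, 0⟩, ⟨0, 0⟩, ⟨0, 0⟩⟩, ⟨⟨0, 0⟩, ⟨2, 0⟩, ⟨0, 0⟩, ⟨0, 0⟩⟩, ⟨⟨-1, 2⟩, ⟨1, 0⟩, ⟨-1, 0⟩, ⟨-1, 0⟩⟩⟩, [7, 5, 1, 3, 5, 7, 3, 5, 1, 7, 3], ⟨⟨-1, 1⟩, ⟨1, 0⟩, ⟨0, -1⟩, ⟨0, 0⟩⟩),
  (⟨⟨⟨2, 0⟩, ⟨0, 0⟩, ⟨0, 0⟩, ⟨0, 0⟩⟩, ⟨⟨-2, 0⟩, ⟨0, 0⟩, ⟨0, 0⟩, ⟨0, 0⟩⟩, ⟨⟨-1, 2⟩, ⟨1, 0⟩, ⟨1, 0⟩, ⟨1, 0⟩⟩⟩, [1, 3, 7, 1, 3, 1, 7], ⟨⟨2, 0⟩, ⟨0, 0⟩, ⟨0, 0⟩, ⟨0, 0⟩⟩),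
  (⟨⟨⟨2, 0⟩, ⟨0, 0⟩, ⟨0, 0⟩, ⟨0, 0⟩⟩, ⟨⟨2, 0⟩, ⟨0, 0⟩, ⟨0, 0⟩, ⟨0, 0⟩⟩, ⟨⟨-1, 2⟩, ⟨1, 0⟩, ⟨1, 0⟩, ⟨1, 0⟩⟩⟩, [5, 3, 5, 7, 1, 3, 1, 7], ⟨⟨-2, 0⟩, ⟨0, 0⟩, ⟨0, 0⟩, ⟨0, 0⟩⟩),
  (⟨⟨⟨2, 0⟩, ⟨0, 0⟩, ⟨0, 0⟩, ⟨0, 0⟩⟩, ⟨⟨-2, 0⟩, ⟨0, 0⟩, ⟨0, 0⟩, ⟨0, 0⟩⟩, ⟨⟨1, -2⟩, ⟨-1, 0⟩, ⟨-1, 0⟩, ⟨-1, 0⟩⟩⟩, [3, 7, 1, 3, 1, 7], ⟨⟨-2, 0⟩, ⟨0, 0⟩, ⟨0, 0⟩, ⟨0, 0⟩⟩),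
  (⟨⟨⟨2, 0⟩, ⟨0, 0⟩, ⟨0, 0⟩, ⟨0, 0⟩⟩, ⟨⟨2, 0⟩, ⟨0, 0⟩, ⟨0, 0⟩, ⟨0, 0⟩⟩, ⟨⟨1, -2⟩, ⟨-1, 0⟩, ⟨-1, 0⟩, ⟨-1, 0⟩⟩⟩, [3, 5, 7, 1, 3, 1, 7], ⟨⟨-2, 0⟩, ⟨0, 0⟩, ⟨0, 0⟩, ⟨0, 0⟩⟩),
  (⟨⟨⟨2, 0⟩, ⟨0, 0⟩, ⟨0, 0⟩, ⟨0, 0⟩⟩, ⟨⟨0, 0⟩, ⟨-2, 0⟩, ⟨0, 0⟩, ⟨0, 0⟩⟩, ⟨⟨1, -2⟩, ⟨-1, 0⟩, ⟨1, 0⟩, ⟨1, 0⟩⟩⟩, [7, 5, 1, 3, 1, 7, 3, 7, 3], ⟨⟨1, -1⟩, ⟨-1, 0⟩, ⟨0, 1⟩, ⟨0, 0⟩⟩),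
  (⟨⟨⟨2, 0⟩, ⟨0, 0⟩, ⟨0, 0⟩, ⟨0, 0⟩⟩, ⟨⟨0, 0⟩, ⟨2, 0⟩, ⟨0, 0⟩, ⟨0, 0⟩⟩, ⟨⟨1, -2⟩, ⟨-1, 0⟩, ⟨1, 0⟩, ⟨1, 0⟩⟩⟩, [1, 3, 7, 3, 7, 1, 3, 7, 3, 7], ⟨⟨0, 0⟩, ⟨1, -1⟩, ⟨0, 1⟩, ⟨1, 0⟩⟩),
  (⟨⟨⟨2, 0⟩, ⟨0, 0⟩, ⟨0, 0⟩, ⟨0, 0⟩⟩, ⟨⟨0, 0⟩, ⟨0, 0⟩, ⟨-2, 0⟩, ⟨0, 0⟩⟩, ⟨⟨1, -2⟩, ⟨1, 0⟩, ⟨-1, 0⟩, ⟨1, 0⟩⟩⟩, [5, 1, 7, 3], ⟨⟨2, 0⟩, ⟨0, 0⟩, ⟨0, 0⟩, ⟨0, 0⟩⟩),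
  (⟨⟨⟨2, 0⟩, ⟨0, 0⟩, ⟨0, 0⟩, ⟨0, 0⟩⟩, ⟨⟨0, 0⟩, ⟨0, 0⟩, ⟨2, 0⟩, ⟨0, 0⟩⟩, ⟨⟨1, -2⟩, ⟨1, 0⟩, ⟨-1, 0⟩, ⟨1, 0⟩⟩⟩, [1, 3, 5, 3, 7, 3], ⟨⟨-2, 0⟩, ⟨0, 0⟩, ⟨0, 0⟩, ⟨0, 0⟩⟩),
  (⟨⟨⟨2, 0⟩, ⟨0, 0⟩, ⟨0, 0⟩, ⟨0, 0⟩⟩, ⟨⟨0, 0⟩, ⟨0, 0⟩, ⟨0, 0⟩, ⟨-2, 0⟩⟩, ⟨⟨1, -2⟩, ⟨1, 0⟩, ⟨1, 0⟩, ⟨-1, 0⟩⟩⟩, [7, 3, 5, 7, 5, 1, 3, 7, 3], ⟨⟨-1, 1⟩, ⟨0, -1⟩, ⟨0, 0⟩, ⟨1, 0⟩⟩),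
  (⟨⟨⟨2, 0⟩, ⟨0, 0⟩, ⟨0, 0⟩, ⟨0, 0⟩⟩, ⟨⟨0, 0⟩, ⟨0, 0⟩, ⟨0, 0⟩, ⟨2, 0⟩⟩, ⟨⟨1, -2⟩, ⟨1, 0⟩, ⟨1, 0⟩, ⟨-1, 0⟩⟩⟩, [7, 3, 7, 3, 1, 7, 3, 7, 3], ⟨⟨-1, 0⟩, ⟨0, 1⟩, ⟨1, -1⟩, ⟨0, 0⟩⟩),
  (⟨⟨⟨2, 0⟩, ⟨0, 0⟩, ⟨0, 0⟩, ⟨0, 0⟩⟩, ⟨⟨0, -1⟩, ⟨0, -1⟩, ⟨0, 1⟩, ⟨0, -1⟩⟩, ⟨⟨1, -1⟩, ⟨-1, 1⟩, ⟨-1, 1⟩, ⟨1, -1⟩⟩⟩, [1, 3, 1, 7, 5, 3, 7], ⟨⟨2, 0⟩, ⟨0, 0⟩, ⟨0, 0⟩, ⟨0, 0⟩⟩),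
  (⟨⟨⟨2, 0⟩, ⟨0, 0⟩, ⟨0, 0⟩, ⟨0, 0⟩⟩, ⟨⟨0, 1⟩, ⟨0, 1⟩, ⟨0, -1⟩, ⟨0, 1⟩⟩, ⟨⟨1, -1⟩, ⟨-1, 1⟩, ⟨-1, 1⟩, ⟨1, -1⟩⟩⟩, [3, 1, 7, 3, 5, 7, 3], ⟨⟨1, 0⟩, ⟨-1, 0⟩, ⟨1, 0⟩, ⟨-1, 0⟩⟩),
  (⟨⟨⟨2, 0⟩, ⟨0, 0⟩, ⟨0, 0⟩, ⟨0, 0⟩⟩, ⟨⟨0, -1⟩, ⟨0, 1⟩, ⟨0, -1⟩, ⟨0, -1⟩⟩, ⟨⟨1, -1⟩, ⟨-1, 1⟩, ⟨1, -1⟩, ⟨-1, 1⟩⟩⟩, [3, 7, 1, 3, 7, 3], ⟨⟨-1, 1⟩, ⟨1, 0⟩, ⟨0, -1⟩, ⟨0, 0⟩⟩),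
  (⟨⟨⟨2, 0⟩, ⟨0, 0⟩, ⟨0, 0⟩, ⟨0, 0⟩⟩, ⟨⟨0, 1⟩, ⟨0, -1⟩, ⟨0, 1⟩, ⟨0, 1⟩⟩, ⟨⟨1, -1⟩, ⟨-1, 1⟩, ⟨1, -1⟩, ⟨-1, 1⟩⟩⟩, [1, 3, 7, 3, 7], ⟨⟨2, 0⟩, ⟨0, 0⟩, ⟨0, 0⟩, ⟨0, 0⟩⟩),
  (⟨⟨⟨2, 0⟩, ⟨0, 0⟩, ⟨0, 0⟩, ⟨0, 0⟩⟩, ⟨⟨0, -1⟩, ⟨0, -1⟩, ⟨0, -1⟩, ⟨0, 1⟩⟩, ⟨⟨1, -1⟩, ⟨1, -1⟩, ⟨-1, 1⟩, ⟨-1, 1⟩⟩⟩, [3, 5, 3, 7, 3, 7, 3], ⟨⟨1, 0⟩, ⟨1, 0⟩, ⟨1, 0⟩, ⟨-1, 0⟩⟩),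
  (⟨⟨⟨2, 0⟩, ⟨0, 0⟩, ⟨0, 0⟩, ⟨0, 0⟩⟩, ⟨⟨0, 1⟩, ⟨0, 1⟩, ⟨0, 1⟩, ⟨0, -1⟩⟩, ⟨⟨1, -1⟩, ⟨1, -1⟩, ⟨-1, 1⟩, ⟨-1, 1⟩⟩⟩, [7, 3, 7, 3], ⟨⟨1, 0⟩, ⟨1, 0⟩, ⟨1, 0⟩, ⟨-1, 0⟩⟩),
  (⟨⟨⟨2, 0⟩, ⟨0, 0⟩, ⟨0, 0⟩, ⟨0, 0⟩⟩, ⟨⟨0, -1⟩, ⟨0, 1⟩, ⟨0, 1⟩, ⟨0, 1⟩⟩, ⟨⟨1, -1⟩, ⟨1, -1⟩, ⟨1, -1⟩, ⟨1, -1⟩⟩⟩, [5, 3, 7, 1, 3, 5, 7, 3, 7], ⟨⟨0, 0⟩, ⟨1, -1⟩, ⟨0, 1⟩, ⟨-1, 0⟩⟩),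
  (⟨⟨⟨2, 0⟩, ⟨0, 0⟩, ⟨0, 0⟩, ⟨0, 0⟩⟩, ⟨⟨0, 1⟩, ⟨0, -1⟩, ⟨0, -1⟩, ⟨0, -1⟩⟩, ⟨⟨1, -1⟩, ⟨1, -1⟩, ⟨1, -1⟩, ⟨1, -1⟩⟩⟩, [1, 7, 3, 7, 1, 3, 7], ⟨⟨0, 0⟩, ⟨-1, 1⟩, ⟨0, -1⟩, ⟨-1, 0⟩⟩),
  (⟨⟨⟨2, 0⟩, ⟨0, 0⟩, ⟨0, 0⟩, ⟨0, 0⟩⟩, ⟨⟨0, 0⟩, ⟨0, 0⟩, ⟨-2, 0⟩, ⟨0, 0⟩⟩, ⟨⟨1, 0⟩, ⟨-1, 0⟩, ⟨-1, 0⟩, ⟨-1, 2⟩⟩⟩, [7, 3, 7, 5, 3, 1, 7, 3, 7, 3], ⟨⟨-1, 0⟩, ⟨0, -1⟩, ⟨1, -1⟩, ⟨0, 0⟩⟩),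
  (⟨⟨⟨2, 0⟩, ⟨0, 0⟩, ⟨0, 0⟩, ⟨0, 0⟩⟩, ⟨⟨0, 0⟩, ⟨0, 0⟩, ⟨2, 0⟩, ⟨0, 0⟩⟩, ⟨⟨1, 0⟩, ⟨-1, 0⟩, ⟨-1, 0⟩, ⟨-1, 2⟩⟩⟩, [5, 3, 5, 7, 5, 3, 1, 7, 3, 7, 3], ⟨⟨0, 1⟩, ⟨-1, 0⟩, ⟨0, 0⟩, ⟨1, -1⟩⟩),
  (⟨⟨⟨2, 0⟩, ⟨0, 0⟩, ⟨0, 0⟩, ⟨0, 0⟩⟩, ⟨⟨0, 0⟩, ⟨-2, 0⟩, ⟨0, 0⟩, ⟨0, 0⟩⟩, ⟨⟨1, 0⟩, ⟨-1, 0⟩, ⟨-1, 2⟩, ⟨-1, 0⟩⟩⟩, [3, 7, 5, 1, 3, 7, 3, 7], ⟨⟨0, 1⟩, ⟨-1, 0⟩, ⟨0, 0⟩, ⟨1, -1⟩⟩),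
  (⟨⟨⟨2, 0⟩, ⟨0, 0⟩, ⟨0, 0⟩, ⟨0, 0⟩⟩, ⟨⟨0, 0⟩, ⟨2, 0⟩, ⟨0, 0⟩, ⟨0, 0⟩⟩, ⟨⟨1, 0⟩, ⟨-1, 0⟩, ⟨-1, 2⟩, ⟨-1, 0⟩⟩⟩, [3, 5, 7, 5, 1, 3, 7, 3, 7], ⟨⟨0, 1⟩, ⟨-1, 0⟩, ⟨0, 0⟩, ⟨1, -1⟩⟩),
  (⟨⟨⟨2, 0⟩, ⟨0, 0⟩, ⟨0, 0⟩, ⟨0, 0⟩⟩, ⟨⟨-2, 0⟩, ⟨0, 0⟩, ⟨0, 0⟩, ⟨0, 0⟩⟩, ⟨⟨1, 0⟩, ⟨-1, 0⟩, ⟨1, -2⟩, ⟨1, 0⟩⟩⟩, [3, 7, 5, 7, 1, 3, 7, 3], ⟨⟨-2, 0⟩, ⟨0, 0⟩, ⟨0, 0⟩, ⟨0, 0⟩⟩),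
  (⟨⟨⟨2, 0⟩, ⟨0, 0⟩, ⟨0, 0⟩, ⟨0, 0⟩⟩, ⟨⟨2, 0⟩, ⟨0, 0⟩, ⟨0, 0⟩, ⟨0, 0⟩⟩, ⟨⟨1, 0⟩, ⟨-1, 0⟩, ⟨1, -2⟩, ⟨1, 0⟩⟩⟩, [3, 1, 7, 5, 7, 3, 7, 3], ⟨⟨2, 0⟩, ⟨0, 0⟩, ⟨0, 0⟩, ⟨0, 0⟩⟩),
  (⟨⟨⟨2, 0⟩, ⟨0, 0⟩, ⟨0, 0⟩, ⟨0, 0⟩⟩, ⟨⟨0, 0⟩, ⟨0, 0⟩, ⟨0, 0⟩, ⟨-2, 0⟩⟩, ⟨⟨1, 0⟩, ⟨-1, 0⟩, ⟨1, 0⟩, ⟨1, -2⟩⟩⟩, [3, 1, 7, 3, 1, 7, 5, 7, 3, 7, 3], ⟨⟨1, 0⟩, ⟨-1, 1⟩, ⟨0, 0⟩, ⟨0, -1⟩⟩),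
  (⟨⟨⟨2, 0⟩, ⟨0, 0⟩, ⟨0, 0⟩, ⟨0, 0⟩⟩, ⟨⟨0, 0⟩, ⟨0, 0⟩, ⟨0, 0⟩, ⟨2, 0⟩⟩, ⟨⟨1, 0⟩, ⟨-1, 0⟩, ⟨1, 0⟩, ⟨1, -2⟩⟩⟩, [3, 1, 7, 5, 3, 7, 5, 1, 3, 7], ⟨⟨1, -1⟩, ⟨0, 0⟩, ⟨1, 0⟩, ⟨0, -1⟩⟩),
  (⟨⟨⟨2, 0⟩, ⟨0, 0⟩, ⟨0, 0⟩, ⟨0, 0⟩⟩, ⟨⟨0, 0⟩, ⟨0, 0⟩, ⟨0, 0⟩, ⟨-2, 0⟩⟩, ⟨⟨1, 0⟩, ⟨-1, 2⟩, ⟨-1, 0⟩, ⟨-1, 0⟩⟩⟩, [7, 1, 3, 7, 5, 3, 1, 7, 1, 3], ⟨⟨1, 0⟩, ⟨1, -1⟩, ⟨0, 0⟩, ⟨0, 1⟩⟩),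
  (⟨⟨⟨2, 0⟩, ⟨0, 0⟩, ⟨0, 0⟩, ⟨0, 0⟩⟩, ⟨⟨0, 0⟩, ⟨0, 0⟩, ⟨0, 0⟩, ⟨2, 0⟩⟩, ⟨⟨1, 0⟩, ⟨-1, 2⟩, ⟨-1, 0⟩, ⟨-1, 0⟩⟩⟩, [7, 3, 5, 1, 7, 3, 7, 3], ⟨⟨0, 1⟩, ⟨1, 0⟩, ⟨0, 0⟩, ⟨-1, 1⟩⟩),
  (⟨⟨⟨2, 0⟩, ⟨0, 0⟩, ⟨0, 0⟩, ⟨0, 0⟩⟩, ⟨⟨0, 0⟩, ⟨0, 0⟩, ⟨-2, 0⟩, ⟨0, 0⟩⟩, ⟨⟨1, 0⟩, ⟨-1, 2⟩, ⟨1, 0⟩, ⟨1, 0⟩⟩⟩, [3, 7, 3, 5, 7, 3, 7, 1, 3, 7], ⟨⟨0, 0⟩, ⟨1, 0⟩, ⟨1, -1⟩, ⟨0, -1⟩⟩),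
  (⟨⟨⟨2, 0⟩, ⟨0, 0⟩, ⟨0, 0⟩, ⟨0, 0⟩⟩, ⟨⟨0, 0⟩, ⟨0, 0⟩, ⟨2, 0⟩, ⟨0, 0⟩⟩, ⟨⟨1, 0⟩, ⟨-1, 2⟩, ⟨1, 0⟩, ⟨1, 0⟩⟩⟩, [3, 7, 1, 3, 5, 1, 7, 3, 7, 3], ⟨⟨-1, 1⟩, ⟨1, 0⟩, ⟨0, 1⟩, ⟨0, 0⟩⟩),
  (⟨⟨⟨2, 0⟩, ⟨0, 0⟩, ⟨0, 0⟩, ⟨0, 0⟩⟩, ⟨⟨0, 0⟩, ⟨-2, 0⟩, ⟨0, 0⟩, ⟨0, 0⟩⟩, ⟨⟨1, 0⟩, ⟨1, -2⟩, ⟨-1, 0⟩, ⟨1, 0⟩⟩⟩, [5, 3, 7, 3, 7, 1, 3, 7, 3, 7], ⟨⟨1, -1⟩, ⟨0, 0⟩, ⟨1, 0⟩, ⟨0, -1⟩⟩),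
  (⟨⟨⟨2, 0⟩, ⟨0, 0⟩, ⟨0, 0⟩, ⟨0, 0⟩⟩, ⟨⟨0, 0⟩, ⟨2, 0⟩, ⟨0, 0⟩, ⟨0, 0⟩⟩, ⟨⟨1, 0⟩, ⟨1, -2⟩, ⟨-1, 0⟩, ⟨1, 0⟩⟩⟩, [1, 7, 5, 1, 3, 1, 7, 3, 7, 3], ⟨⟨1, 0⟩, ⟨1, -1⟩, ⟨0, 0⟩, ⟨0, 1⟩⟩),
  (⟨⟨⟨2, 0⟩, ⟨0, 0⟩, ⟨0, 0⟩, ⟨0, 0⟩⟩, ⟨⟨-2, 0⟩, ⟨0, 0⟩, ⟨0, 0⟩, ⟨0, 0⟩⟩, ⟨⟨1, 0⟩, ⟨1, -2⟩, ⟨1, 0⟩, ⟨-1, 0⟩⟩⟩, [1, 7, 3, 1, 7, 1, 3], ⟨⟨-1, 1⟩, ⟨-1, 0⟩, ⟨0, 1⟩, ⟨0, 0⟩⟩),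
  (⟨⟨⟨2, 0⟩, ⟨0, 0⟩, ⟨0, 0⟩, ⟨0, 0⟩⟩, ⟨⟨2, 0⟩, ⟨0, 0⟩, ⟨0, 0⟩, ⟨0, 0⟩⟩, ⟨⟨1, 0⟩, ⟨1, -2⟩, ⟨1, 0⟩, ⟨-1, 0⟩⟩⟩, [7, 1, 3, 5, 3, 7, 3, 7], ⟨⟨0, 1⟩, ⟨0, 0⟩, ⟨1, -1⟩, ⟨-1, 0⟩⟩),
  (⟨⟨⟨2, 0⟩, ⟨0, 0⟩, ⟨0, 0⟩, ⟨0, 0⟩⟩, ⟨⟨-2, 0⟩, ⟨0, 0⟩, ⟨0, 0⟩, ⟨0, 0⟩⟩, ⟨⟨1, 0⟩, ⟨1, 0⟩, ⟨-1, 0⟩, ⟨1, -2⟩⟩⟩, [7, 3, 1, 7, 1, 3, 7, 1, 3], ⟨⟨2, 0⟩, ⟨0, 0⟩, ⟨0, 0⟩, ⟨0, 0⟩⟩),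
  (⟨⟨⟨2, 0⟩, ⟨0, 0⟩, ⟨0, 0⟩, ⟨0, 0⟩⟩, ⟨⟨2, 0⟩, ⟨0, 0⟩, ⟨0, 0⟩, ⟨0, 0⟩⟩, ⟨⟨1, 0⟩, ⟨1, 0⟩, ⟨-1, 0⟩, ⟨1, -2⟩⟩⟩, [5, 7, 5, 3, 5, 1, 7, 3], ⟨⟨1, -1⟩, ⟨-1, 0⟩, ⟨0, -1⟩, ⟨0, 0⟩⟩),
  (⟨⟨⟨2, 0⟩, ⟨0, 0⟩, ⟨0, 0⟩, ⟨0, 0⟩⟩, ⟨⟨0, 0⟩, ⟨0, 0⟩, ⟨0, 0⟩, ⟨-2, 0⟩⟩, ⟨⟨1, 0⟩, ⟨1, 0⟩, ⟨-1, 2⟩, ⟨1, 0⟩⟩⟩, [7, 3, 7, 3, 5, 1, 7, 3], ⟨⟨1, -1⟩, ⟨0, 0⟩, ⟨1, 0⟩, ⟨0, 1⟩⟩),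
  (⟨⟨⟨2, 0⟩, ⟨0, 0⟩, ⟨0, 0⟩, ⟨0, 0⟩⟩, ⟨⟨0, 0⟩, ⟨0, 0⟩, ⟨0, 0⟩, ⟨2, 0⟩⟩, ⟨⟨1, 0⟩, ⟨1, 0⟩, ⟨-1, 2⟩, ⟨1, 0⟩⟩⟩, [3, 1, 7, 3, 5, 1, 7, 3, 7], ⟨⟨-1, 1⟩, ⟨0, 0⟩, ⟨-1, 0⟩, ⟨0, -1⟩⟩),
  (⟨⟨⟨2, 0⟩, ⟨0, 0⟩, ⟨0, 0⟩, ⟨0, 0⟩⟩, ⟨⟨0, 0⟩, ⟨0, 0⟩, ⟨-2, 0⟩, ⟨0, 0⟩⟩, ⟨⟨1, 0⟩, ⟨1, 0⟩, ⟨1, -2⟩, ⟨-1, 0⟩⟩⟩, [3, 5, 3, 7, 1, 3], ⟨⟨2, 0⟩, ⟨0, 0⟩, ⟨0, 0⟩, ⟨0, 0⟩⟩),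
  (⟨⟨⟨2, 0⟩, ⟨0, 0⟩, ⟨0, 0⟩, ⟨0, 0⟩⟩, ⟨⟨0, 0⟩, ⟨0, 0⟩, ⟨2, 0⟩, ⟨0, 0⟩⟩, ⟨⟨1, 0⟩, ⟨1, 0⟩, ⟨1, -2⟩, ⟨-1, 0⟩⟩⟩, [7, 1, 3], ⟨⟨2, 0⟩, ⟨0, 0⟩, ⟨0, 0⟩, ⟨0, 0⟩⟩),
  (⟨⟨⟨2, 0⟩, ⟨0, 0⟩, ⟨0, 0⟩, ⟨0, 0⟩⟩, ⟨⟨0, 0⟩, ⟨-2, 0⟩, ⟨0, 0⟩, ⟨0, 0⟩⟩, ⟨⟨1, 0⟩, ⟨1, 0⟩, ⟨1, 0⟩, ⟨-1, 2⟩⟩⟩, [7, 1, 3, 1, 7, 3, 1, 7, 1, 3], ⟨⟨-1, 0⟩, ⟨1, -1⟩, ⟨0, 0⟩, ⟨0, 1⟩⟩),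
  (⟨⟨⟨2, 0⟩, ⟨0, 0⟩, ⟨0, 0⟩, ⟨0, 0⟩⟩, ⟨⟨0, 0⟩, ⟨2, 0⟩, ⟨0, 0⟩, ⟨0, 0⟩⟩, ⟨⟨1, 0⟩, ⟨1, 0⟩, ⟨1, 0⟩, ⟨-1, 2⟩⟩⟩, [7, 1, 3, 1, 7, 3, 7, 3], ⟨⟨0, 0⟩, ⟨0, 1⟩, ⟨1, 0⟩, ⟨-1, 1⟩⟩),
  (⟨⟨⟨0, 0⟩, ⟨0, 0⟩, ⟨0, 0⟩, ⟨0, 0⟩⟩, ⟨⟨1, -2⟩, ⟨1, 0⟩, ⟨1, 0⟩, ⟨1, 0⟩⟩, ⟨⟨1, -2⟩, ⟨1, 0⟩, ⟨1, 0⟩, ⟨1, 0⟩⟩⟩, [7, 5, 7, 5, 3, 7], ⟨⟨1, 0⟩, ⟨1, -1⟩, ⟨0, 0⟩, ⟨0, -1⟩⟩),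
  (⟨⟨⟨0, 0⟩, ⟨0, 0⟩, ⟨0, 0⟩, ⟨0, 0⟩⟩, ⟨⟨1, -2⟩, ⟨1, 0⟩, ⟨1, 0⟩, ⟨1, 0⟩⟩, ⟨⟨-1, 2⟩, ⟨-1, 0⟩, ⟨-1, 0⟩, ⟨-1, 0⟩⟩⟩, [7, 5, 7, 3, 7], ⟨⟨1, 0⟩, ⟨1, -1⟩, ⟨0, 0⟩, ⟨0, -1⟩⟩),
  (⟨⟨⟨0, 0⟩, ⟨0, 0⟩, ⟨0, 0⟩, ⟨0, 0⟩⟩, ⟨⟨1, -2⟩, ⟨1, 0⟩, ⟨1, 0⟩, ⟨1, 0⟩⟩, ⟨⟨-1, 0⟩, ⟨1, 0⟩, ⟨-1, 0⟩, ⟨1, -2⟩⟩⟩, [7, 3, 5, 7, 1, 3, 7, 3, 7], ⟨⟨-1, 1⟩, ⟨1, 0⟩, ⟨0, 1⟩, ⟨0, 0⟩⟩),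
  (⟨⟨⟨0, 0⟩, ⟨0, 0⟩, ⟨0, 0⟩, ⟨0, 0⟩⟩, ⟨⟨1, -2⟩, ⟨1, 0⟩, ⟨1, 0⟩, ⟨1, 0⟩⟩, ⟨⟨1, 0⟩, ⟨-1, 0⟩, ⟨1, 0⟩, ⟨-1, 2⟩⟩⟩, [5, 7, 3, 5, 7, 1, 3, 7, 3, 7], ⟨⟨-1, 1⟩, ⟨1, 0⟩, ⟨0, 1⟩, ⟨0, 0⟩⟩),
  (⟨⟨⟨0, 0⟩, ⟨0, 0⟩, ⟨0, 0⟩, ⟨0, 0⟩⟩, ⟨⟨1, -2⟩, ⟨1, 0⟩, ⟨1, 0⟩, ⟨1, 0⟩⟩, ⟨⟨1, 0⟩, ⟨-1, 2⟩, ⟨-1, 0⟩, ⟨1, 0⟩⟩⟩, [3, 7, 3, 7, 5, 3, 7, 3, 1, 7, 3], ⟨⟨0, 0⟩, ⟨-1, 1⟩, ⟨0, -1⟩, ⟨1, 0⟩⟩),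
  (⟨⟨⟨0, 0⟩, ⟨0, 0⟩, ⟨0, 0⟩, ⟨0, 0⟩⟩, ⟨⟨1, -2⟩, ⟨1, 0⟩, ⟨1, 0⟩, ⟨1, 0⟩⟩, ⟨⟨-1, 0⟩, ⟨-1, 0⟩, ⟨1, -2⟩, ⟨1, 0⟩⟩⟩, [1, 3, 1, 7], ⟨⟨-1, 0⟩, ⟨-1, 1⟩, ⟨0, 0⟩, ⟨0, 1⟩⟩),
  (⟨⟨⟨0, 0⟩, ⟨0, 0⟩, ⟨0, 0⟩, ⟨0, 0⟩⟩, ⟨⟨1, -2⟩, ⟨1, 0⟩, ⟨1, 0⟩, ⟨1, 0⟩⟩, ⟨⟨-1, 0⟩, ⟨1, -2⟩, ⟨1, 0⟩, ⟨-1, 0⟩⟩⟩, [7, 3, 7, 5, 3, 7, 3, 1, 7, 3], ⟨⟨0, -1⟩, ⟨1, 0⟩, ⟨0, 0⟩, ⟨1, -1⟩⟩),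
  (⟨⟨⟨0, 0⟩, ⟨0, 0⟩, ⟨0, 0⟩, ⟨0, 0⟩⟩, ⟨⟨1, -2⟩, ⟨1, 0⟩, ⟨1, 0⟩, ⟨1, 0⟩⟩, ⟨⟨1, 0⟩, ⟨1, 0⟩, ⟨-1, 2⟩, ⟨-1, 0⟩⟩⟩, [1, 3, 7], ⟨⟨0, 0⟩, ⟨0, 0⟩, ⟨2, 0⟩, ⟨0, 0⟩⟩)]

theorem okA : okR vA = true := by decide +kernel
theorem okB : okR vB = true := by decide +kernel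
theorem okC : okR vC = true := by decide +kernel
theorem okD : okR vD = true := by decide +kernel

theorem chk_all : allI (chk NW Y4 U4) = true := by decide +kernel

theorem chk_NW : lall (fun e => decide (e.2.2.Par ∧ e.2.2.nrm = ⟨4, 0⟩ ∧ (appW M4 e.2.1 vC).lmul e.2.2 = e.1)) NW =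
    true := by decide +kernel

theorem chk_U4 : U4.Nodup ∧ ∀ u ∈ U4, u.Par ∧ u.nrm = ⟨4, 0⟩ := by decide +kernel

theorem chk_M7 : allFrom (fun x => decide (matW M4 (substL AW x) = nth oneM M7 x)) 0 15 = true := by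
  decide +kernel

theorem chk_XW : allFrom (fun i => decide (matW M7 (nth [] XW i) = nth oneM M4 (2 * i + 1))) 0 4 = true := by
  decide +kernel

theorem chk_ZW : matW M4 ZW = negM := by decide +kernel

end CF.Comp.J2
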